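import Groth.Agent.RefStalk.Restrict
import Groth.Agent.RefStalk.Refl
import Groth.Agent.LocH.DepthMisc
import Groth.Agent.ZCl.Depth
import Groth.Agent.LocNoethTop.Basic
import Groth.Prelude.Def_CInt

/-!
Extension of morphisms and functions across closed sets of depth at least two.
-/

set_option autoImplicit false
set_option linter.style.haveILetI false
set_option linter.unusedSectionVars false
set_option backward.isDefEq.respectTransparency false
set_option backward.isDefEq.respectTransparency.types false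

universe u

open CategoryTheory AlgebraicGeometry TopologicalSpace Opposite

noncomputable section

namespace Groth.Agent.DepthExtend

variable {X : Scheme.{u}}

theorem depth_structureModule (x : X) :
    LocCoh.depth (X.presheaf.stalk x) ((Coh.structureModule X).presheaf.stalk x) =
      LocCoh.depth (X.presheaf.stalk x) (X.presheaf.stalk x) := by
  obtain ⟨e, -⟩ := RefStalk.exists_structStalk (X := X) x
  exact LocH.idealDepth_congr e.symm _

variable [IsLocallyNoetherian X] (U : X.Opens)

theorem bijective_restrict_hom (E F : X.Modules) (hE : Coh.IsCoh E)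
    (h : ∀ x : X, x ∉ U → (2 : ℕ∞) ≤ LocCoh.depth (X.presheaf.stalk x) (E.presheaf.stalk x)) :
    Function.Bijective (fun φ : F ⟶ E => (Scheme.Modules.restrictFunctor U.ι).map φ) := by
  haveI := RefStalk.isIso_unit_of_depth hE U h
  let adj := Scheme.Modules.restrictAdjunction U.ι
  let e : (F ⟶ E) ≃ ((Scheme.Modules.restrictFunctor U.ι).obj F ⟶ (Scheme.Modules.restrictFunctor U.ι).obj E) :=
    ((asIso (adj.unit.app E)).homToEquiv (Z := F)).trans (adj.homEquiv _ _).symm
  have he : (fun φ : F ⟶ E => (Scheme.Modules.restrictFunctor U.ι).map φ) = e := funext fun φ => by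
    apply (adj.homEquiv _ _).injective
    show _ = adj.homEquiv _ _ ((adj.homEquiv _ _).symm (φ ≫ adj.unit.app E))
    rw [Equiv.apply_symm_apply, Adjunction.homEquiv_unit]
    exact (adj.unit.naturality φ).symm
  rw [he]
  exact e.bijective

theorem two_le_depth_push (G : (U : Scheme.{u}).Modules) (hG : Coh.IsCoh ((Scheme.Modules.pushforward U.ι).obj G))
    (x : X) (hx : x ∉ U) : (2 : ℕ∞) ≤
      LocCoh.depth (X.presheaf.stalk x) (((Scheme.Modules.pushforward U.ι).obj G).presheaf.stalk x) := by
  obtain ⟨V, hV, hxV, -⟩ := exists_isAffineOpen_mem_and_subset (X := X) (U := ⊤) (x := x) trivial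
  refine (ZCl.bijective_rs_iff_depth _ hG hV U).1 ?_ x hxV hx
  let adj := Scheme.Modules.restrictAdjunction U.ι
  haveI : IsIso (adj.unit.app ((Scheme.Modules.pushforward U.ι).obj G)) :=
    IsIso.of_isIso_fac_right (adj.right_triangle_components G)
  have hb := ZCl.bijective_of_isIso (adj.unit.app ((Scheme.Modules.pushforward U.ι).obj G)) V
  rw [Scheme.Modules.restrictAdjunction_unit_app_app] at hb
  have hc := (ZCl.rs_bijective ((Scheme.Modules.pushforward U.ι).obj G) (ZCl.image_le U V) (ZCl.le_image U V)).comp hb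
  exact (show (ZCl.rs ((Scheme.Modules.pushforward U.ι).obj G) (inf_le_right : U ⊓ V ≤ V) : _ → _) =
    ZCl.rs _ (ZCl.image_le U V) ∘ ZCl.rs _ (U.ι.image_preimage_le V) from
    funext fun s => (ZCl.rs_rs _ _ _ _).symm) ▸ hc

theorem isSchematicallyDense_iff :
    CInt.IsSchematicallyDense U ↔ ∀ x : X, x ∉ U → (1 : ℕ∞) ≤ LocCoh.depth (X.presheaf.stalk x) (X.presheaf.stalk x) := by
  constructor
  · intro h x hx
    obtain ⟨V, hV, hxV, -⟩ := exists_isAffineOpen_mem_and_subset (X := X) (U := ⊤) (x := x) trivial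
    rw [← depth_structureModule]
    refine (ZCl.injective_rs_iff_depth _ RefStalk.isCoh_structureModule hV U).1 (fun a b hab => h V ?_) x hxV hx
    have h2 := congrArg (ZCl.rs (Coh.structureModule X) (show V ⊓ U ≤ U ⊓ V from le_of_eq (inf_comm V U))) hab
    rw [ZCl.rs_rs, ZCl.rs_rs] at h2
    exact h2
  · intro h V a b hab
    refine ZCl.ext_germ (Coh.structureModule X) a b fun x hx => ?_
    obtain ⟨W, hW, hxW, hWV⟩ := exists_isAffineOpen_mem_and_subset (X := X) (U := V) hx
    have hinj := (ZCl.injective_rs_iff_depth (Coh.structureModule X) RefStalk.isCoh_structureModule hW U).2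
      fun y _ hy => (h y hy).trans_eq (depth_structureModule y).symm
    have hWU : U ⊓ W ≤ V ⊓ U := le_inf (inf_le_right.trans hWV) inf_le_left
    have h1 : ZCl.rs (Coh.structureModule X) hWV a = ZCl.rs (Coh.structureModule X) hWV b := hinj (by
      rw [ZCl.rs_rs, ZCl.rs_rs, ← ZCl.rs_rs _ (inf_le_left : V ⊓ U ≤ V) hWU, ← ZCl.rs_rs _ (inf_le_left : V ⊓ U ≤ V) hWU]
      exact congrArg _ hab)
    exact (ZCl.germ_rs (Coh.structureModule X) hWV x hxW a).symm.trans
      ((congrArg _ h1).trans (ZCl.germ_rs (Coh.structureModule X) hWV x hxW b))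

theorem bijective_sections (h : ∀ x : X, x ∉ U → (2 : ℕ∞) ≤ LocCoh.depth (X.presheaf.stalk x) (X.presheaf.stalk x))
    (V : X.Opens) : Function.Bijective (X.presheaf.map (homOfLE (inf_le_left : V ⊓ U ≤ V)).op) :=
  RefStalk.bijective_rs_of_depth (F := Coh.structureModule X) RefStalk.isCoh_structureModule inf_le_left
    fun x hx hx' => (h x fun hU => hx' ⟨hx, hU⟩).trans_eq (depth_structureModule x).symm

theorem connectedComponentsMap_bijective
    (h : ∀ x : X, x ∉ U → (2 : ℕ∞) ≤ LocCoh.depth (X.presheaf.stalk x) (X.presheaf.stalk x)) :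
    Function.Bijective (Continuous.connectedComponentsMap
      (continuous_subtype_val : Continuous (fun x : U => (x : X)))) := by
  have hnX : ∀ x : X, ∃ O ∈ nhds x, NoetherianSpace O := fun x => by
    obtain ⟨V, hV, hxV, -⟩ := exists_isAffineOpen_mem_and_subset (X := X) (U := ⊤) (x := x) trivial
    haveI : IsNoetherianRing Γ(X, V) := IsLocallyNoetherian.component_noetherian ⟨V, hV⟩
    exact ⟨V, V.2.mem_nhds hxV, noetherianSpace_of_isAffineOpen V hV⟩
  haveI := LocNoethTop.locallyConnectedSpace hnX
  haveI : LocallyConnectedSpace ↥(U : Set X) := U.2.isOpenEmbedding_subtypeVal.locallyConnectedSpace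
  constructor
  · intro p q hpq
    obtain ⟨a, rfl⟩ := ConnectedComponents.surjective_coe p
    obtain ⟨b, rfl⟩ := ConnectedComponents.surjective_coe q
    refine ConnectedComponents.coe_eq_coe'.2 (by_contra fun hne => ?_)
    have hab : (a : X) ∈ connectedComponent (b : X) := ConnectedComponents.coe_eq_coe'.1 hpq
    let K : Set U := connectedComponent b
    let W₁ : X.Opens := ⟨Subtype.val '' K, U.2.isOpenMap_subtype_val _ isOpen_connectedComponent⟩
    let W₀ : X.Opens := ⟨Subtype.val '' Kᶜ, U.2.isOpenMap_subtype_val _ isClosed_connectedComponent.isOpen_compl⟩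
    have hdis : Disjoint W₁ W₀ := by
      rw [disjoint_iff]
      refine Opens.ext (Set.eq_empty_of_forall_notMem ?_)
      rintro z ⟨⟨u, hu, rfl⟩, v, hv, huv⟩
      exact hv (Subtype.ext huv ▸ hu)
    have hcov : W₁ ⊔ W₀ = U := by
      refine Opens.ext (Set.ext fun z => ⟨?_, fun hz => ?_⟩)
      · rintro (⟨u, -, rfl⟩ | ⟨u, -, rfl⟩) <;> exact u.2
      · by_cases hk : (⟨z, hz⟩ : U) ∈ K
        exacts [Or.inl ⟨_, hk, rfl⟩, Or.inr ⟨_, hk, rfl⟩]
    obtain ⟨s, hs₁, hs₀⟩ : ∃ s : Γ(X, U), X.presheaf.map (homOfLE (le_sup_left.trans hcov.le : W₁ ≤ U)).op s = 1 ∧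
        X.presheaf.map (homOfLE (le_sup_right.trans hcov.le : W₀ ≤ U)).op s = 0 := by
      obtain ⟨s, hs, -⟩ := X.sheaf.existsUnique_gluing' (fun i : ULift.{u} Bool => bif i.down then W₁ else W₀) U
        (fun i => match i with
          | ⟨true⟩ => homOfLE (le_sup_left.trans hcov.le)
          | ⟨false⟩ => homOfLE (le_sup_right.trans hcov.le))
        (hcov.ge.trans (sup_le (le_iSup (fun i : ULift.{u} Bool => bif i.down then W₁ else W₀) ⟨true⟩)
          (le_iSup (fun i : ULift.{u} Bool => bif i.down then W₁ else W₀) ⟨false⟩)))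
        (fun i => match i with
          | ⟨true⟩ => (1 : Γ(X, W₁))
          | ⟨false⟩ => (0 : Γ(X, W₀)))
        (fun i j => by
          rcases i with ⟨_ | _⟩ <;> rcases j with ⟨_ | _⟩
          · rfl
          · exact (X.sheaf.eq_of_locally_eq' (fun e : PEmpty.{u + 1} => e.elim) _ (fun e => e.elim)
              (show W₀ ⊓ W₁ ≤ _ from hdis.symm.eq_bot.le.trans bot_le) _ _ fun e => e.elim)
          · exact (X.sheaf.eq_of_locally_eq' (fun e : PEmpty.{u + 1} => e.elim) _ (fun e => e.elim)
              (show W₁ ⊓ W₀ ≤ _ from hdis.eq_bot.le.trans bot_le) _ _ fun e => e.elim)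
          · rfl)
      exact ⟨s, hs ⟨true⟩, hs ⟨false⟩⟩
    have hsU : s * s = s := by
      refine X.sheaf.eq_of_locally_eq' (fun i : ULift.{u} Bool => bif i.down then W₁ else W₀) U
        (fun i => match i with
          | ⟨true⟩ => homOfLE (le_sup_left.trans hcov.le)
          | ⟨false⟩ => homOfLE (le_sup_right.trans hcov.le))
        (hcov.ge.trans (sup_le (le_iSup (fun i : ULift.{u} Bool => bif i.down then W₁ else W₀) ⟨true⟩)
          (le_iSup (fun i : ULift.{u} Bool => bif i.down then W₁ else W₀) ⟨false⟩))) _ _ fun i => ?_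
      rcases i with ⟨_ | _⟩
      · show X.presheaf.map (homOfLE (le_sup_right.trans hcov.le : W₀ ≤ U)).op (s * s) =
          X.presheaf.map (homOfLE (le_sup_right.trans hcov.le : W₀ ≤ U)).op s
        rw [map_mul, hs₀, mul_zero]
      · show X.presheaf.map (homOfLE (le_sup_left.trans hcov.le : W₁ ≤ U)).op (s * s) =
          X.presheaf.map (homOfLE (le_sup_left.trans hcov.le : W₁ ≤ U)).op s
        rw [map_mul, hs₁, mul_one]
    have hb := bijective_sections U h ⊤
    obtain ⟨e, he⟩ := hb.2 (X.presheaf.map (homOfLE (inf_le_right : ⊤ ⊓ U ≤ U)).op s)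
    have hee : e * e = e := hb.1 (by rw [map_mul, he, ← map_mul, hsU])
    have hgerm : ∀ (z : X) (hz : z ∈ U), X.presheaf.germ ⊤ z trivial e = X.presheaf.germ U z hz s := fun z hz => by
      rw [← X.presheaf.germ_res_apply (homOfLE (inf_le_left : ⊤ ⊓ U ≤ ⊤)) z ⟨trivial, hz⟩ e, he,
        X.presheaf.germ_res_apply]
    have hb1 : X.presheaf.germ ⊤ (b : X) trivial e = 1 := by
      rw [hgerm _ b.2, ← X.presheaf.germ_res_apply (homOfLE (le_sup_left.trans hcov.le : W₁ ≤ U)) (b : X)
        ⟨b, mem_connectedComponent, rfl⟩ s, hs₁, map_one]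
    have ha0 : X.presheaf.germ ⊤ (a : X) trivial e = 0 := by
      rw [hgerm _ a.2, ← X.presheaf.germ_res_apply (homOfLE (le_sup_right.trans hcov.le : W₀ ≤ U)) (a : X)
        ⟨a, hne, rfl⟩ s, hs₀, map_zero]
    have hclopen : IsClopen (X.basicOpen e : Set X) := by
      refine ⟨?_, (X.basicOpen e).2⟩
      rw [← isOpen_compl_iff]
      have hc : (X.basicOpen e : Set X)ᶜ = (X.basicOpen (1 - e) : Set X) := by
        ext z
        have hz : z ∈ (⊤ : X.Opens) := trivial
        rw [Set.mem_compl_iff, SetLike.mem_coe, SetLike.mem_coe, X.mem_basicOpen e z hz, X.mem_basicOpen (1 - e) z hz,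
          map_sub, map_one]
        have hi : IsIdempotentElem (X.presheaf.germ ⊤ z hz e) := by
          rw [IsIdempotentElem, ← map_mul, hee]
        constructor
        · intro hnu
          exact (IsLocalRing.isUnit_or_isUnit_one_sub_self _).resolve_left hnu
        · intro hu hu'
          have h1 : X.presheaf.germ ⊤ z hz e = 1 := (IsIdempotentElem.iff_eq_one_of_isUnit hu').mp hi
          rw [h1, sub_self, isUnit_zero_iff] at hu
          exact zero_ne_one hu
      rw [hc]
      exact (X.basicOpen _).2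
    have hbm : (b : X) ∈ (X.basicOpen e : Set X) := (X.mem_basicOpen e _ trivial).2 (hb1 ▸ isUnit_one)
    have := hclopen.connectedComponent_subset hbm hab
    rw [SetLike.mem_coe, X.mem_basicOpen e _ trivial, ha0, isUnit_zero_iff] at this
    exact zero_ne_one this
  · intro p
    obtain ⟨x, rfl⟩ := ConnectedComponents.surjective_coe p
    by_contra hno
    let C : X.Opens := ⟨connectedComponent x, isOpen_connectedComponent⟩
    have hCU : C ⊓ U = ⊥ := by
      refine Opens.ext (Set.eq_empty_of_forall_notMem fun z hz => hno ⟨ConnectedComponents.mk ⟨z, hz.2⟩, ?_⟩)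
      exact ConnectedComponents.coe_eq_coe'.2 hz.1
    have hb := bijective_sections U h C
    have h10 : (1 : Γ(X, C)) = 0 := hb.1 (by
      haveI : Subsingleton Γ(X, C ⊓ U) := by
        rw [hCU]
        exact CommRingCat.subsingleton_of_isTerminal (X.sheaf.isTerminalOfEmpty)
      exact Subsingleton.elim _ _)
    have hx : x ∈ C := mem_connectedComponent
    have := congrArg (X.presheaf.germ C x hx) h10
    rw [map_one, map_zero] at this
    exact one_ne_zero this

end Groth.Agent.DepthExtend
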